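import Cfsg.Agent.Lib.CNStruct.NormalNilpotent
import Cfsg.Agent.Lib.CN.Structure
import Cfsg.Agent.Lib.CIT.Classification
import Cfsg.Agent.Lib.CITApp.Socle

/-!
# A non-solvable CN group is a CIT group
-/

set_option autoImplicit false
set_option linter.style.haveILetI false

namespace CfsgLib.CNStruct

open Subgroup CfsgLib.CN

variable {G : Type*} [Group G] [Finite G]

theorem exists_pow_invol {H : Type*} [Group H] [Finite H] {a : H} (ha : PElem 2 a) (ha1 : a ≠ 1) :
    ∃ n : ℕ, orderOf (a ^ n) = 2 := by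
  obtain ⟨k, hk⟩ := ha
  obtain ⟨j, -, hj⟩ := (Nat.dvd_prime_pow Nat.prime_two).mp (orderOf_dvd_of_pow_eq_one hk)
  refine ⟨orderOf a / 2, orderOf_pow_orderOf_div (orderOf_pos a).ne' ?_⟩
  rw [hj]
  refine dvd_pow_self 2 fun h0 => ha1 ?_
  rw [← orderOf_eq_one_iff, hj, h0, pow_zero]

variable (hns : ¬ Group.IsSolvable G) (hCN : Cfsg.IsCNGroup G)
include hns hCN

/-- Without normal 2-subgroups there is no normal nilpotent subgroup. -/
theorem eq_bot_of_nilpotent (h2 : Cfsg.pCore 2 G = ⊥) (N : Subgroup G) [N.Normal]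
    (hN : Group.IsNilpotent N) : N = ⊥ :=
  le_bot_iff.mp (h2 ▸ CfsgLib.Solvable.le_pCore inferInstance (isPGroup_two hns hCN hN))

/-- Without normal 2-subgroups there is a simple normal subgroup with trivial centraliser. -/
theorem exists_socle (h2 : Cfsg.pCore 2 G = ⊥) :
    ∃ T : Subgroup G, T.Normal ∧ IsSimpleGroup T ∧ (∃ a b : T, a * b ≠ b * a) ∧
      centralizer (T : Set G) = ⊥ := by
  have hne : ({T : Subgroup G | T.Normal ∧ T ≠ ⊥}).Nonempty := by
    refine ⟨⊤, inferInstance, fun h => hns ?_⟩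
    haveI : Subsingleton G :=
      Subgroup.subsingleton_iff.mp ((subsingleton_iff_bot_eq_top).mp h.symm)
    infer_instance
  obtain ⟨T, ⟨hTn, hT1⟩, hmin⟩ := Set.exists_min_image _ (fun T : Subgroup G => Nat.card T)
    (Set.toFinite _) hne
  haveI := hTn
  have hminimal : ∀ N : Subgroup G, N.Normal → N ≤ T → N = ⊥ ∨ N = T := fun N hN hle => by
    rcases eq_or_ne N ⊥ with h | h
    · exact Or.inl h
    · exact Or.inr (Subgroup.eq_of_le_of_card_ge hle (hmin N ⟨hN, h⟩))
  have hnotnil : ¬ Group.IsNilpotent T := fun h => hT1 (eq_bot_of_nilpotent hns hCN h2 T h)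
  haveI : Nontrivial T := (Subgroup.nontrivial_iff_ne_bot T).mpr hT1
  refine ⟨T, hTn, ?_, ?_, ?_⟩
  · constructor
    intro M hM
    by_contra hcon
    push Not at hcon
    obtain ⟨M, ⟨hM, hM1, hMT⟩, hMmin⟩ := Set.exists_min_image
      {M : Subgroup T | M.Normal ∧ M ≠ ⊥ ∧ M ≠ ⊤} (fun M => Nat.card M) (Set.toFinite _)
      ⟨M, hM, hcon.1, hcon.2⟩
    haveI := hM
    obtain ⟨x, hx⟩ : ∃ x : G, M.map (MulAut.conjNormal (H := T) x).toMonoidHom ≠ M := by
      by_contra hall
      push Not at hall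
      have hn : (M.map T.subtype).Normal := by
        constructor
        rintro _ ⟨a, ha, rfl⟩ g
        exact ⟨MulAut.conjNormal g a, hall g ▸ Subgroup.mem_map_of_mem _ ha,
          MulAut.conjNormal_apply g a⟩
      rcases hminimal _ hn (Subgroup.map_subtype_le M) with h | h
      · exact hM1 ((Subgroup.map_eq_bot_iff_of_injective M T.subtype_injective).mp h)
      · exact hMT (Subgroup.eq_top_of_card_eq M (by
          rw [← Subgroup.card_map_of_injective (K := M) T.subtype_injective, h]))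
    set φ := MulAut.conjNormal (H := T) x with hφ
    set M2 := M.map φ.toMonoidHom with hM2
    haveI hM2n : M2.Normal := hM.map _ φ.surjective
    have hdisj : Disjoint M M2 := by
      rw [disjoint_iff]
      by_contra hne'
      have hc := hMmin (M ⊓ M2) ⟨inferInstance, hne', fun h => hMT (top_le_iff.mp (h ▸ inf_le_left))⟩
      have h1 : M ⊓ M2 = M := Subgroup.eq_of_le_of_card_ge inf_le_left hc
      refine hx (Subgroup.eq_of_le_of_card_ge (inf_eq_left.mp h1) ?_).symm
      exact (Subgroup.card_map_of_injective φ.injective).le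
    obtain ⟨b, hb, hb1⟩ : ∃ b ∈ M2, b ≠ 1 := by
      by_contra h
      push Not at h
      exact hM1 ((Subgroup.map_eq_bot_iff_of_injective M φ.injective).mp
        (eq_bot_iff.mpr fun a ha => mem_bot.mpr (h a ha)))
    have hnilM : Group.IsNilpotent M := isNilpotent_of_le
      (isCNGroup_subgroup hCN T b hb1) fun a ha => mem_centralizer_singleton_iff.mpr
        (Subgroup.commute_of_normal_of_disjoint M M2 hM hM2n hdisj a b ha hb)
    haveI : (Cfsg.fittingSubgroup T).Characteristic :=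
      CfsgLib.Solvable.fittingSubgroup_characteristic T
    have hF : (Cfsg.fittingSubgroup T).map T.subtype = ⊥ := by
      refine eq_bot_of_nilpotent hns hCN h2 _ ?_
      haveI := CfsgLib.Solvable.fittingSubgroup_isNilpotent T
      exact Group.nilpotent_of_mulEquiv
        (equivMapOfInjective (Cfsg.fittingSubgroup T) _ T.subtype_injective)
    rw [Subgroup.map_eq_bot_iff_of_injective _ T.subtype_injective] at hF
    exact hM1 (le_bot_iff.mp (hF ▸ CfsgLib.Solvable.le_fittingSubgroup hM hnilM))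
  · by_contra hab
    push Not at hab
    exact hnotnil (CfsgLib.Solvable.isNilpotent_of_comm hab)
  · rw [eq_bot_iff]
    intro c hc
    rw [mem_bot]
    by_contra hc1
    exact hnotnil (isNilpotent_of_le (hCN c hc1) fun a ha =>
      mem_centralizer_singleton_iff.mpr (hc a ha))

/-- A non-solvable CN group is a CIT group. -/
theorem isCIT : CfsgLib.CIT.IsCIT G := by
  refine CfsgLib.CITApp.isCIT_of_no_commute fun t x r hr hr2 ht hx hc => ?_
  haveI := Fact.mk hr
  haveI : Fact (Nat.Prime 2) := ⟨Nat.prime_two⟩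
  have hx1 : x ≠ 1 := ne_one_of_orderOf_eq hr hx
  have hxp : PElem r x := pElem_of_orderOf_eq hx
  have htp : PElem 2 t := pElem_of_orderOf_eq ht
  have ht1 : t ≠ 1 := ne_one_of_orderOf_eq Nat.prime_two ht
  -- `x` centralises the 2-elements of the centraliser of a 2-element commuting with it
  have hstep : ∀ s a : G, s ≠ 1 → x * s = s * x → PElem 2 a → a * s = s * a → x * a = a * x :=
    fun s a hs1 hxs ha has => commute_of_nilpotent hr2 (hCN s hs1)
      (mem_centralizer_singleton_iff.mpr hxs) (mem_centralizer_singleton_iff.mpr has) hxp ha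
  by_cases h2 : Cfsg.pCore 2 G = ⊥
  swap
  · haveI := CfsgLib.Solvable.pCore_normal 2 G
    set W := Cfsg.pCore 2 G with hW
    have hWp : IsPGroup 2 W := CfsgLib.Solvable.pCore_isPGroup 2 G
    obtain ⟨w, hw, hw1, hwt⟩ := exists_fixed hWp h2 htp (le_normalizer_of_normal (mem_top t))
    have hxw : x * w = w * x := hstep t w ht1 hc.eq.symm (pElem_of_mem hWp hw) hwt.symm
    haveI : Nontrivial W := (Subgroup.nontrivial_iff_ne_bot W).mpr h2
    haveI := hWp.center_nontrivial
    obtain ⟨z, hz⟩ := exists_ne (1 : center W)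
    set z' : G := ((z : W) : G)
    have hz1 : z' ≠ 1 := fun h => hz (Subtype.ext (Subtype.ext h))
    have hzW : ∀ a ∈ W, a * z' = z' * a := fun a ha =>
      congrArg Subtype.val (mem_center_iff.mp z.2 ⟨a, ha⟩)
    have hxz : x * z' = z' * x :=
      hstep w z' hw1 hxw (pElem_of_mem hWp (z : W).2) ((hzW w hw).symm)
    have hnil : Group.IsNilpotent (centralizer (W : Set G)) :=
      isNilpotent_of_le (hCN z' hz1) (centralizer_le (Set.singleton_subset_iff.mpr (z : W).2))
    have hxC : x ∈ centralizer (W : Set G) := fun a ha =>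
      (hstep z' a hz1 hxz (pElem_of_mem hWp ha) (hzW a ha)).symm
    exact hx1 (PElem.eq_one hr2 hxp (pElem_of_mem (isPGroup_two hns hCN hnil) hxC))
  obtain ⟨T, hTn, hTs, hab, hcent⟩ := exists_socle hns hCN h2
  haveI := hTn
  haveI := hTs
  have hTC : CfsgLib.CIT.IsCIT T := CfsgLib.CIT.CNR.isCIT_of_isCN (isCNGroup_subgroup hCN T) hab
  have hTtwo : ∀ s ∈ T, orderOf s = 2 → ∀ g ∈ T, g * s = s * g → PElem 2 g := by
    intro s hs ho g hg hgs
    obtain ⟨k, hk⟩ := hTC ⟨s, hs⟩ (by rw [Subgroup.orderOf_mk, ho])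
      ⟨⟨g, hg⟩, mem_centralizer_singleton_iff.mpr (Subtype.ext hgs)⟩
    exact ⟨k, congrArg (fun a : centralizer ({⟨s, hs⟩} : Set T) => ((a : T) : G)) hk⟩
  -- an involution of `T` commuting with `x`
  obtain ⟨u, huT, hu, hxu⟩ : ∃ u ∈ T, orderOf u = 2 ∧ x * u = u * x := by
    obtain ⟨S, hS⟩ := (IsPGroup.of_card (G := zpowers t) (p := 2) (n := 1)
      (by rw [Nat.card_zpowers, ht, pow_one])).exists_le_sylow
    obtain ⟨u0, hu0⟩ := exists_prime_orderOf_dvd_card' 2 (CfsgLib.CIT.two_dvd_card hab)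
    obtain ⟨P0, hP0⟩ := (IsPGroup.of_card (G := zpowers (u0 : G)) (p := 2) (n := 1)
      (by rw [Nat.card_zpowers, Subgroup.orderOf_coe, hu0, pow_one])).exists_le_sylow
    obtain ⟨g, hg⟩ := MulAction.exists_smul_eq G P0 S
    have hgu : g * u0 * g⁻¹ ∈ (S : Subgroup G) ⊓ T := by
      refine ⟨?_, hTn.conj_mem _ u0.2 g⟩
      rw [← hg]
      exact ⟨(u0 : G), hP0 (mem_zpowers _), rfl⟩
    have hne : (S : Subgroup G) ⊓ T ≠ ⊥ := fun h => by
      rw [h, mem_bot, conj_eq_one_iff] at hgu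
      rw [show u0 = 1 from Subtype.ext hgu, orderOf_one] at hu0
      omega
    have htN : t ∈ normalizer (((S : Subgroup G) ⊓ T : Subgroup G) : Set G) := by
      refine Subgroup.mem_normalizer_iff.mpr fun a => ?_
      exact and_congr (Subgroup.mem_normalizer_iff.mp (le_normalizer (hS (mem_zpowers t))) a)
        (Subgroup.mem_normalizer_iff.mp (le_normalizer_of_normal (H := T) (mem_top t)) a)
    obtain ⟨v, hv, hv1, hvt⟩ := exists_fixed (S.2.to_le inf_le_left) hne htp htN
    obtain ⟨n, hn⟩ := exists_pow_invol (pElem_of_mem S.2 hv.1) hv1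
    exact ⟨v ^ n, pow_mem hv.2 n, hn, hstep t (v ^ n) ht1 hc.eq.symm
      ((pElem_of_mem S.2 hv.1).pow n) ((show Commute t v from hvt).pow_right n).symm.eq⟩
  have hu1 : u ≠ 1 := CfsgLib.Invol.ne_one_of_invol hu
  set Q := T ⊓ centralizer ({x} : Set G) with hQdef
  have hQx : ∀ {a : G}, a ∈ Q → x * a = a * x := fun ha =>
    (mem_centralizer_singleton_iff.mp ha.2).symm
  have huQ : u ∈ Q := ⟨huT, mem_centralizer_singleton_iff.mpr hxu.symm⟩
  have hQ2 : IsPGroup 2 Q := by
    refine isPGroup_of_forall fun s hs y hy hys => ?_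
    by_contra hs2
    haveI := Fact.mk hs
    have hyu : y * u = u * y := commute_of_nilpotent hs2 (hCN x hx1) hy.2
      (mem_centralizer_singleton_iff.mpr hxu.symm) (pElem_of_orderOf_eq hys)
      (pElem_of_orderOf_eq hu)
    exact ne_one_of_orderOf_eq hs hys
      (PElem.eq_one hs2 (pElem_of_orderOf_eq hys) (hTtwo u huT hu y hy.1 hyu))
  have hcl : ∀ s ∈ Q, orderOf s = 2 → ∀ g ∈ T, g * s = s * g → g ∈ Q := fun s hs ho g hg hgs =>
    ⟨hg, mem_centralizer_singleton_iff.mpr (hstep s g (CfsgLib.Invol.ne_one_of_invol ho) (hQx hs)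
      (hTtwo s hs.1 ho g hg hgs) hgs).symm⟩
  -- the normaliser of `Q` in `T`
  have hnorm : ∀ g ∈ T, (∀ a ∈ Q, g⁻¹ * a * g ∈ Q) → g ∈ Q := by
    intro g hg hgQ
    have h1 := hQx (hgQ u huQ)
    have hgx : g * x * g⁻¹ ∈ centralizer ({u} : Set G) := mem_centralizer_singleton_iff.mpr (by
      calc g * x * g⁻¹ * u = g * (x * (g⁻¹ * u * g)) * g⁻¹ := by group
        _ = g * ((g⁻¹ * u * g) * x) * g⁻¹ := by rw [h1]
        _ = u * (g * x * g⁻¹) := by group)
    have hxC : x ∈ centralizer ({u} : Set G) := mem_centralizer_singleton_iff.mpr hxu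
    have hmem : ∀ y : G, PElem r y → y ∈ centralizer ({u} : Set G) →
        y ∈ Cfsg.piCoreOf {r} (centralizer ({u} : Set G)) := fun y hy hyC =>
      OddOrder.mem_piCoreOf_of_nilpotent (hCN u hu1) hyC fun s hs hd => hy.orderOf_dvd hs hd
    have hcr : PElem r (g * x * g⁻¹ * x⁻¹) :=
      pElem_of_mem (OddOrder.piCoreOf_singleton_isPGroup r (centralizer ({u} : Set G)))
        (mul_mem (hmem _ (hxp.conj g) hgx) (inv_mem (hmem x hxp hxC)))
    have hcT : g * x * g⁻¹ * x⁻¹ ∈ T := by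
      rw [show g * x * g⁻¹ * x⁻¹ = g * (x * g⁻¹ * x⁻¹) by group]
      exact mul_mem hg (hTn.conj_mem _ (inv_mem hg) x)
    have hc1 := PElem.eq_one hr2 hcr (hTtwo u huT hu _ hcT
      (mem_centralizer_singleton_iff.mp (mul_mem hgx (inv_mem hxC))))
    exact ⟨hg, mem_centralizer_singleton_iff.mpr
      (mul_inv_eq_iff_eq_mul.mp (mul_inv_eq_one.mp hc1))⟩
  obtain ⟨z, hzQ, hz, hzc⟩ : ∃ z ∈ Q, orderOf z = 2 ∧ ∀ a ∈ Q, a * z = z * a := by
    haveI : Nontrivial Q := (Subgroup.nontrivial_iff_ne_bot Q).mpr fun h => hu1 (by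
      rwa [h, mem_bot] at huQ)
    haveI := hQ2.center_nontrivial
    obtain ⟨z, hz⟩ := exists_prime_orderOf_dvd_card' 2
      ((hQ2.to_subgroup (center Q)).card_eq_or_dvd.resolve_left Finite.one_lt_card.ne')
    exact ⟨((z : Q) : G), (z : Q).2, by rw [Subgroup.orderOf_coe, Subgroup.orderOf_coe, hz],
      fun a ha => congrArg Subtype.val (mem_center_iff.mp z.2 ⟨a, ha⟩)⟩
  have hTI : ∀ g ∈ T, ∀ s ∈ Q, orderOf s = 2 → g * s * g⁻¹ ∈ Q → g ∈ Q := by
    intro g hg s hs ho hgs
    have hconjT : ∀ a ∈ Q, g * a * g⁻¹ ∈ T := fun a ha => hTn.conj_mem a ha.1 g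
    have hzmem : g * z * g⁻¹ ∈ Q := hcl _ hgs ((CfsgLib.Invol.orderOf_conj g s).trans ho) _
      (hconjT z hzQ) (by
        calc g * z * g⁻¹ * (g * s * g⁻¹) = g * (z * s) * g⁻¹ := by group
          _ = g * (s * z) * g⁻¹ := by rw [hzc s hs]
          _ = g * s * g⁻¹ * (g * z * g⁻¹) := by group)
    have hall : ∀ a ∈ Q, g * a * g⁻¹ ∈ Q := fun a ha =>
      hcl _ hzmem ((CfsgLib.Invol.orderOf_conj g z).trans hz) _ (hconjT a ha) (by
        calc g * a * g⁻¹ * (g * z * g⁻¹) = g * (a * z) * g⁻¹ := by group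
          _ = g * (z * a) * g⁻¹ := by rw [hzc a ha]
          _ = g * z * g⁻¹ * (g * a * g⁻¹) := by group)
    exact inv_mem_iff.mp (hnorm g⁻¹ (inv_mem hg) fun a ha => by rw [inv_inv]; exact hall a ha)
  have hone : CfsgLib.CITApp.OneClass T :=
    CfsgLib.CITApp.oneClass_of_conclusion hTs hab hTC (CfsgLib.CIT.classification hab hTC)
  have huniq : ∀ s ∈ Q, orderOf s = 2 → s = z := by
    intro s hs ho
    obtain ⟨c, hcc⟩ := isConj_iff.mp (hone ⟨z, hzQ.1⟩ ⟨s, hs.1⟩
      (by rw [Subgroup.orderOf_mk, hz]) (by rw [Subgroup.orderOf_mk, ho]))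
    have hcs : (c : G) * z * (c : G)⁻¹ = s := congrArg Subtype.val hcc
    have hcQ : (c : G) ∈ Q := hTI c c.2 z hzQ hz (by rw [hcs]; exact hs)
    rw [← hcs, hzc c hcQ, mul_inv_cancel_right]
  -- so `T` has 2-rank one
  have hrank : ∀ E : Subgroup T, ¬ IsKleinFour E := by
    intro E hE
    have hord : ∀ e : E, e ≠ 1 → orderOf (((e : T) : G)) = 2 := fun e he => by
      rw [Subgroup.orderOf_coe, Subgroup.orderOf_coe]
      exact orderOf_eq_prime (by rw [sq]; exact IsKleinFour.mul_self e) he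
    obtain ⟨a, ha⟩ : ∃ a : E, a ≠ 1 := by
      haveI : Nontrivial E := Finite.one_lt_card_iff_nontrivial.mp (by rw [hE.card_four]; norm_num)
      exact exists_ne 1
    obtain ⟨b, hb1, hba⟩ : ∃ b : E, b ≠ 1 ∧ b ≠ a := by
      classical
      haveI := Fintype.ofFinite E
      obtain ⟨b, hb⟩ := Finset.exists_mem_notMem_of_card_lt_card (s := ({1, a} : Finset E))
        (t := (Finset.univ : Finset E)) (by
          rw [Finset.card_univ, ← Nat.card_eq_fintype_card, hE.card_four]
          exact lt_of_le_of_lt Finset.card_le_two (by norm_num))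
      exact ⟨b, fun h => hb.2 (by simp [h]), fun h => hb.2 (by simp [h])⟩
    have hab' : Commute b a := by
      show b * a = a * b
      have h := inv_eq_of_mul_eq_one_right (IsKleinFour.mul_self (a * b))
      rwa [mul_inv_rev, inv_eq_of_mul_eq_one_right (IsKleinFour.mul_self a),
        inv_eq_of_mul_eq_one_right (IsKleinFour.mul_self b)] at h
    obtain ⟨c, hcc⟩ := isConj_iff.mp (hone (a : T) ⟨z, hzQ.1⟩
      (by rw [← Subgroup.orderOf_coe (a : T)]; exact hord a ha)
      (by rw [Subgroup.orderOf_mk, hz]))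
    have hca : (c : G) * ((a : T) : G) * (c : G)⁻¹ = z := congrArg Subtype.val hcc
    have hbc : ((b : T) : G) * ((a : T) : G) = ((a : T) : G) * ((b : T) : G) :=
      congrArg (fun e : E => ((e : T) : G)) hab'.eq
    have hbQ : (c : G) * ((b : T) : G) * (c : G)⁻¹ ∈ Q :=
      hcl z hzQ hz _ (hTn.conj_mem _ (b : T).2 c) (by
        rw [← hca]
        calc (c : G) * ((b : T) : G) * (c : G)⁻¹ * ((c : G) * ((a : T) : G) * (c : G)⁻¹)
            = c * (((b : T) : G) * ((a : T) : G)) * (c : G)⁻¹ := by group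
          _ = c * (((a : T) : G) * ((b : T) : G)) * (c : G)⁻¹ := by rw [hbc]
          _ = _ := by group)
    have hbz := huniq _ hbQ ((CfsgLib.Invol.orderOf_conj _ _).trans (hord b hb1))
    rw [← hca, mul_left_inj, mul_right_inj] at hbz
    exact hba (Subtype.ext (Subtype.ext hbz))
  obtain ⟨z', hz', N, hN, hNodd, hcomm⟩ := CfsgLib.Invol.exists_central_mod_core
    (even_iff_two_dvd.mpr (CfsgLib.CIT.two_dvd_card hab)) hrank
  rcases hN.eq_bot_or_eq_top with h | h
  · rcases (inferInstance : (center T).Normal).eq_bot_or_eq_top with hc' | hc'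
    · refine CfsgLib.Invol.ne_one_of_invol hz' (mem_bot.mp (hc' ▸ mem_center_iff.mpr fun g => ?_))
      have h1 := hcomm g
      rw [h, mem_bot] at h1
      exact (mul_inv_eq_iff_eq_mul.mp (mul_inv_eq_one.mp h1)).symm
    · obtain ⟨a, b, hne⟩ := hab
      exact hne (mem_center_iff.mp (hc' ▸ mem_top b) a)
  · rw [h, Subgroup.card_top] at hNodd
    exact Nat.not_even_iff_odd.mpr hNodd (even_iff_two_dvd.mpr (CfsgLib.CIT.two_dvd_card hab))

end CfsgLib.CNStruct
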