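import Cfsg.Agent.Lib.ThreeOrd.CoreTrivial
import Cfsg.Agent.Lib.CITApp.Reduction
import Mathlib.Algebra.CharP.Two
import Mathlib.LinearAlgebra.Matrix.ProjectiveSpecialLinearGroup

/-!
# No fixed-point-free action of `PSL(2, p)` on a 2-group for primes `p ≥ 7`
-/

set_option autoImplicit false
set_option linter.style.haveILetI false

namespace CfsgLib.CNStruct

open Matrix

section Algebra

variable {F : Type*} [Field F]

/-- Upper unitriangular matrices. -/
def upp (a : F) : SpecialLinearGroup (Fin 2) F := ⟨!![1, a; 0, 1], by simp [det_fin_two]⟩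

/-- Antidiagonal matrices. -/
def anti (e : Fˣ) : SpecialLinearGroup (Fin 2) F :=
  ⟨!![0, -(e : F); ((e⁻¹ : Fˣ) : F), 0], by simp [det_fin_two]⟩

theorem upp_add (a b : F) : upp (a + b) = upp a * upp b := by
  refine Subtype.ext ?_
  show _ = (upp a).1 * (upp b).1
  ext i j; fin_cases i <;> fin_cases j <;> simp [upp, Matrix.mul_apply, Fin.sum_univ_two, add_comm]

theorem upp_zero : upp (0 : F) = 1 := by
  refine Subtype.ext ?_; ext i j; fin_cases i <;> fin_cases j <;> simp [upp]

theorem anti_sq (e : Fˣ) : anti e * anti e = -1 := by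
  refine Subtype.ext ?_
  show (anti e).1 * (anti e).1 = -1
  ext i j; fin_cases i <;> fin_cases j <;> simp [anti, Matrix.mul_apply, Fin.sum_univ_two]

theorem anti_conj (e : Fˣ) (b : F) :
    anti e * anti 1 * upp b = upp ((e : F) * e * b) * (anti e * anti 1) := by
  refine Subtype.ext ?_
  show (anti e).1 * (anti 1).1 * (upp b).1 = (upp ((e : F) * e * b)).1 * ((anti e).1 * (anti 1).1)
  ext i j; fin_cases i <;> fin_cases j <;> simp [anti, upp, Matrix.mul_apply, Fin.sum_univ_two]
  field_simp

theorem cube_pos (e : Fˣ) : (upp (e : F) * anti e) ^ 3 = -1 := by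
  rw [pow_succ, sq]
  refine Subtype.ext ?_
  show (upp (e : F)).1 * (anti e).1 * ((upp (e : F)).1 * (anti e).1) *
    ((upp (e : F)).1 * (anti e).1) = -1
  ext i j; fin_cases i <;> fin_cases j <;> simp [anti, upp, Matrix.mul_apply, Fin.sum_univ_two]

theorem cube_neg (e : Fˣ) : (upp (-(e : F)) * anti e) ^ 3 = 1 := by
  rw [pow_succ, sq]
  refine Subtype.ext ?_
  show (upp (-(e : F))).1 * (anti e).1 * ((upp (-(e : F))).1 * (anti e).1) *
    ((upp (-(e : F))).1 * (anti e).1) = 1
  ext i j; fin_cases i <;> fin_cases j <;> simp [anti, upp, Matrix.mul_apply, Fin.sum_univ_two]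

/-- In characteristic two the relation `X² + X + 1 = 0` for all elements of order three and the
absence of fixed points of the unipotent elements are contradictory. -/
theorem false_of_rep {A : Type*} [Ring A] [Nontrivial A] [CharP A 2] {p : ℕ}
    (hp7 : 7 ≤ p) [CharP F p] (hnat : ∀ a : F, ∃ n : ℕ, (n : F) = a)
    (ρ : SpecialLinearGroup (Fin 2) F →* A) (hneg : ρ (-1) = 1)
    (h3 : ∀ g : SpecialLinearGroup (Fin 2) F, g ^ 3 = 1 ∨ g ^ 3 = -1 → g ≠ 1 → g ≠ -1 →
      ρ g * ρ g + ρ g + 1 = 0)
    (hu : ∀ a : F, a ≠ 0 → ∀ b : A, (ρ (upp a) + 1) * b = 0 → b = 0) : False := by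
  set E : F → A := fun a => ρ (upp a) with hE
  set f : F → A := fun a => E a + E (-a) with hf
  have hadd : ∀ a b, E (a + b) = E a * E b := fun a b => by simp [hE, upp_add]
  have hzero : E 0 = 1 := by simp [hE, upp_zero]
  have hEinv : ∀ a, E a * E (-a) = 1 := fun a => by rw [← hadd, add_neg_cancel, hzero]
  have hflip : ∀ X : A, ∀ Y : A, X + Y = 0 → X = Y := fun X Y h => CharTwo.add_eq_zero.mp h
  -- the relation for the elements of trace `± 1`
  have hW : ∀ e : Fˣ, ∀ a : F, a = e ∨ a = -(e : F) →
      E a * ρ (anti e) + ρ (anti e) * E (-a) = 1 := by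
    intro e a ha
    have hww : ρ (anti e) * ρ (anti e) = 1 := by rw [← map_mul, anti_sq, hneg]
    have hinv : E a * ρ (anti e) * (ρ (anti e) * E (-a)) = 1 := by
      rw [mul_assoc, ← mul_assoc (ρ (anti e)), hww, one_mul, hEinv]
    have hX : E a * ρ (anti e) * (E a * ρ (anti e)) + E a * ρ (anti e) + 1 = 0 := by
      have hne : ∀ c : SpecialLinearGroup (Fin 2) F, (c : Matrix (Fin 2) (Fin 2) F) 1 0 = 0 →
          upp a * anti e ≠ c := by
        intro c hc h
        subst h
        replace hc : ((upp a).1 * (anti e).1) 1 0 = 0 := hc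
        simp [upp, anti, Matrix.mul_apply, Fin.sum_univ_two] at hc
      have := h3 (upp a * anti e) (by
        rcases ha with rfl | rfl
        · exact Or.inr (cube_pos e)
        · exact Or.inl (cube_neg e)) (hne 1 (by simp)) (hne (-1) (by simp))
      simpa [hE] using this
    have h := congrArg (fun X => X * (ρ (anti e) * E (-a))) hX
    simp only [add_mul, one_mul, zero_mul, mul_assoc (E a * ρ (anti e))] at h
    rw [hinv, mul_one] at h
    refine hflip _ _ ?_
    rw [← h]; abel
  have hcomm : ∀ e : Fˣ, Commute (ρ (anti e)) (f e) := by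
    intro e
    refine hflip _ _ ?_
    have h1 := hW e e (Or.inl rfl)
    have h2 := hW e (-(e : F)) (Or.inr rfl)
    rw [neg_neg] at h2
    have h := congrArg₂ (· + ·) h1 h2
    rw [CharTwo.add_self_eq_zero] at h
    rw [← h]
    simp only [hf, mul_add, add_mul]
    abel
  -- the values of `f` are polynomials in any one of them
  have hall : ∀ e : Fˣ, ∀ b : F, Commute (ρ (anti e)) (f b) := by
    intro e b
    obtain ⟨n, rfl⟩ : ∃ n : ℕ, (n : F) * e = b := by
      obtain ⟨n, hn⟩ := hnat (b * ((e⁻¹ : Fˣ) : F))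
      exact ⟨n, by rw [hn, Units.inv_mul_cancel_right]⟩
    induction n using Nat.twoStepInduction with
    | zero =>
      have : f ((0 : ℕ) * (e : F)) = 0 := by simp [hf, hzero, CharTwo.add_self_eq_zero]
      rw [this]; exact Commute.zero_right _
    | one => simpa using hcomm e
    | more n ih1 ih2 =>
      have : f ((n + 1 + 1 : ℕ) * (e : F)) = f ((n + 1 : ℕ) * (e : F)) * f e + f ((n : ℕ) * (e : F)) := by
        simp only [hf, add_mul, mul_add, ← hadd]
        push_cast
        rw [show ((n : F) + 1) * (e : F) + -(e : F) = n * e by ring,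
          show -(((n : F) + 1) * (e : F)) + e = -((n : F) * e) by ring,
          show ((n : F) + 1) * (e : F) + e = ((n : F) + 1 + 1) * e by ring,
          show -(((n : F) + 1) * (e : F)) + -(e : F) = -(((n : F) + 1 + 1) * e) by ring]
        set P := E (((n : F) + 1 + 1) * e)
        set P' := E (-(((n : F) + 1 + 1) * e))
        set R := E ((n : F) * e)
        set R' := E (-((n : F) * e))
        calc P + P' = P + P' + ((R + R) + (R' + R')) := by
              rw [CharTwo.add_self_eq_zero, CharTwo.add_self_eq_zero, add_zero, add_zero]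
          _ = _ := by abel
      rw [this]
      exact (ih2.mul_right (hcomm e)).add_right ih1
  -- the diagonal elements fix all values of `f`
  have hdiag : ∀ e : Fˣ, f ((e : F) * e * 1) = f 1 := by
    intro e
    set d := ρ (anti e * anti 1)
    have hd : Commute d (f 1) := by
      show Commute (ρ (anti e * anti 1)) (f 1)
      rw [map_mul]
      exact (hall e 1).mul_left (hall 1 1)
    have hconj : d * f 1 = f ((e : F) * e * 1) * d := by
      simp only [hf, d, hE, mul_add, add_mul, ← map_mul]
      rw [anti_conj e 1, anti_conj e (-1), mul_neg]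
    have hdd : d * ρ (anti 1 * anti e) = 1 := by
      simp only [d, ← map_mul]
      rw [show anti e * anti 1 * (anti 1 * anti e) = anti e * (anti 1 * anti 1) * anti e by
        simp [mul_assoc], map_mul, map_mul, anti_sq, hneg, mul_one, ← map_mul, anti_sq, hneg]
    have := congrArg (fun X => X * ρ (anti 1 * anti e)) (hd.eq.symm.trans hconj)
    simp only [mul_assoc, hdd, mul_one] at this
    rw [mul_one]
    exact this.symm
  have hne : ∀ k : ℕ, 0 < k → k < 7 → (k : F) ≠ 0 := by
    intro k h0 h7 h
    have := (CharP.cast_eq_zero_iff F p k).mp h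
    have := Nat.le_of_dvd h0 this
    omega
  have h41 := hdiag (Units.mk0 ((2 : ℕ) : F) (hne 2 (by norm_num) (by norm_num)))
  have h0 : (E ((3 : ℕ) : F) + 1) * ((E ((5 : ℕ) : F) + 1) * E (-((4 : ℕ) : F))) = 0 := by
    have e1 : f ((4 : ℕ) : F) + f 1 = 0 := by
      rw [← h41, CharTwo.add_eq_zero, Units.val_mk0]
      norm_num
    rw [← e1]
    simp only [hf, add_mul, one_mul, mul_add, ← hadd]
    rw [show ((5 : ℕ) : F) + -((4 : ℕ) : F) = 1 by push_cast; ring,
      show ((3 : ℕ) : F) + 1 = ((4 : ℕ) : F) by push_cast; ring,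
      show ((3 : ℕ) : F) + -((4 : ℕ) : F) = -1 by push_cast; ring]
    abel
  have h1 := hu _ (hne 5 (by norm_num) (by norm_num)) _ (hu _ (hne 3 (by norm_num) (by norm_num)) _ h0)
  have h2 := congrArg (fun X => E ((4 : ℕ) : F) * X) h1
  simp only [hEinv, mul_zero] at h2
  exact one_ne_zero h2

end Algebra

variable {G : Type*} [Group G] [Finite G]

/-- An element of odd order outside a normal 2-subgroup fixes nothing of exponent two. -/
theorem eq_one_of_fix (hC : CfsgLib.CIT.IsCIT G) (W : Subgroup G) [W.Normal] (hW : IsPGroup 2 W)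
    {g : G} (hg1 : QuotientGroup.mk' W g ≠ 1) (hgo : Odd (orderOf (QuotientGroup.mk' W g))) {v : G}
    (hv : v * v = 1) (h : g * v = v * g) : v = 1 := by
  by_contra hv1
  haveI : Fact (Nat.Prime 2) := ⟨Nat.prime_two⟩
  obtain ⟨i, hi⟩ := IsPGroup.iff_card.mp hW
  set o := orderOf (QuotientGroup.mk' W g)
  have hmem : g ^ o ∈ W := (QuotientGroup.eq_one_iff _).mp (by
    show QuotientGroup.mk' W (g ^ o) = 1
    rw [map_pow, pow_orderOf_eq_one])
  have hord : orderOf (g ^ 2 ^ i) ∣ o := by
    refine orderOf_dvd_of_pow_eq_one ?_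
    rw [← pow_mul, mul_comm, pow_mul, ← hi]
    exact congrArg Subtype.val (pow_card_eq_one' (x := (⟨_, hmem⟩ : W)))
  have h1 := CfsgLib.CIT.eq_one_of_commute_invol hC
    (orderOf_eq_prime (by rw [sq]; exact hv) hv1)
    ((show Commute v g from h.symm).pow_right (2 ^ i)) (hgo.of_dvd_nat hord)
  have h2 : QuotientGroup.mk' W g ^ 2 ^ i = 1 := by rw [← map_pow, h1, map_one]
  refine hg1 (orderOf_eq_one_iff.mp (Nat.eq_one_of_dvd_coprimes ?_ dvd_rfl
    (orderOf_dvd_of_pow_eq_one h2)))
  exact (Nat.coprime_two_right.mpr hgo).pow_right i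

/-- `PSL(2, p)`, `p ≥ 7` prime, is not involved over a normal 2-subgroup of a CIT group. -/
theorem eq_bot_of_psl_two_prime (hC : CfsgLib.CIT.IsCIT G) (W : Subgroup G) [W.Normal]
    (hW : IsPGroup 2 W) {F : Type*} [Field F] [Fintype F] (hp : (Fintype.card F).Prime)
    (h7 : 7 ≤ Fintype.card F) (φ : ProjectiveSpecialLinearGroup (Fin 2) F →* G ⧸ W)
    (hφ : Function.Injective φ) : W = ⊥ := by
  by_contra hW1
  obtain ⟨V, hVn, hVc, hV1, -, hV2, hVcen⟩ := CfsgLib.ThreeOrd.exists_module W hW hW1
  haveI := hVn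
  letI : CommGroup V :=
    { (inferInstance : Group V) with
      mul_comm := fun a b => Subtype.ext (setLike_mul_comm a.2 b.2) }
  set π := QuotientGroup.mk' W
  let α : G ⧸ W →* MulAut V := QuotientGroup.lift W MulAut.conjNormal (fun w hw => by
    refine MonoidHom.mem_ker.mpr (MulEquiv.ext fun a => Subtype.ext ?_)
    rw [MulAut.conjNormal_apply, hVcen a a.2 w hw, mul_inv_cancel_right]
    rfl)
  let toEnd : MulAut V →* AddMonoid.End (Additive V) :=
    { toFun := fun e => MonoidHom.toAdditive e.toMonoidHom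
      map_one' := rfl
      map_mul' := fun _ _ => rfl }
  haveI hnt : Nontrivial V := (Subgroup.nontrivial_iff_ne_bot V).mpr hV1
  have hsq : ∀ a : Additive V, a + a = 0 := fun a => by
    apply Additive.toMul.injective
    exact Subtype.ext (by simpa [sq] using hV2 (a.toMul : G) a.toMul.2)
  haveI : Nontrivial (AddMonoid.End (Additive V)) := by
    obtain ⟨a, ha⟩ := exists_ne (0 : Additive V)
    exact ⟨⟨1, 0, fun h => ha (DFunLike.congr_fun h a)⟩⟩
  haveI : CharP (AddMonoid.End (Additive V)) 2 := CharTwo.of_one_ne_zero_of_two_eq_zero one_ne_zero (by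
    rw [← one_add_one_eq_two]
    exact AddMonoidHom.ext fun a => hsq a)
  -- odd-order elements fix nothing
  have hfix : ∀ k : G ⧸ W, k ≠ 1 → Odd (orderOf k) → ∀ a : V, α k a = a → a = 1 := by
    intro k hk hodd a ha
    obtain ⟨g, rfl⟩ := QuotientGroup.mk'_surjective W k
    refine Subtype.ext (eq_one_of_fix hC W hW hk hodd
      (by simpa [sq] using hV2 (a : G) a.2) ?_)
    have h : g * (a : G) * g⁻¹ = a := congrArg Subtype.val ha
    exact mul_inv_eq_iff_eq_mul.mp h
  set q := (QuotientGroup.mk' (Subgroup.center (SpecialLinearGroup (Fin 2) F))) with hq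
  let β : SpecialLinearGroup (Fin 2) F →* G ⧸ W := φ.comp q
  have hβneg : β (-1) = 1 := by
    have : q (-1) = 1 := (QuotientGroup.eq_one_iff _).mpr
      (Subgroup.mem_center_iff.mpr fun g => Subtype.ext (by
        show g.1 * (-1) = (-1) * g.1
        rw [mul_neg, neg_mul, mul_one, one_mul]))
    show φ (q (-1)) = 1
    rw [this, map_one]
  haveI : CharP F (Fintype.card F) := by
    obtain ⟨p, hchar⟩ := CharP.exists F
    obtain ⟨n, hp', hn⟩ := FiniteField.card F p
    rw [hn] at hp ⊢
    have := hp.eq_one_of_pow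
    rw [this, pow_one]
    exact hchar
  refine false_of_rep (F := F) h7 ?_ (toEnd.comp (α.comp β)) ?_ ?_ ?_
  · intro a
    have hsurj : Function.Surjective (ZMod.castHom (dvd_refl (Fintype.card F)) F) :=
      ((ZMod.castHom_bijective F rfl)).2
    obtain ⟨b, rfl⟩ := hsurj a
    haveI : NeZero (Fintype.card F) := ⟨hp.ne_zero⟩
    exact ⟨b.val, by rw [ZMod.castHom_apply, ZMod.cast_eq_val]⟩
  · show toEnd (α (β (-1))) = 1
    rw [hβneg, map_one, map_one]
  · intro g hg hg1 hg2
    have hk3 : β g ^ 3 = 1 := by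
      rw [← map_pow]
      rcases hg with h | h <;> rw [h]
      · exact map_one β
      · exact hβneg
    have hk1 : β g ≠ 1 := by
      intro h
      have h' : q g = 1 := hφ (h.trans (map_one φ).symm)
      obtain ⟨r, hr, hrg⟩ := Matrix.SpecialLinearGroup.mem_center_iff.mp ((QuotientGroup.eq_one_iff g).mp h')
      rw [Fintype.card_fin] at hr
      rcases sq_eq_one_iff.mp hr with rfl | rfl
      · exact hg1 (Subtype.ext (hrg.symm.trans (map_one _)))
      · exact hg2 (Subtype.ext (hrg.symm.trans ((map_neg _ _).trans (congrArg Neg.neg (map_one _)))))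
    refine AddMonoidHom.ext fun a => ?_
    set v : V := a.toMul
    show Additive.ofMul (α (β g) (α (β g) v) * α (β g) v * v) = 0
    have h3' : α (β g) (α (β g) (α (β g) v)) = v := by
      rw [← MulAut.mul_apply, ← MulAut.mul_apply, ← map_mul, ← map_mul,
        show β g * β g * β g = 1 by rw [← hk3, pow_succ, sq], map_one, MulAut.one_apply]
    rw [hfix (β g) hk1 ((by decide : Odd 3).of_dvd_nat (orderOf_dvd_of_pow_eq_one hk3))
      (α (β g) (α (β g) v) * α (β g) v * v) (by
        rw [map_mul, map_mul, h3']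
        exact mul_rotate _ _ _)]
    rfl
  · intro a ha b hb
    refine AddMonoidHom.ext fun c => ?_
    have h := DFunLike.congr_fun hb c
    set v : V := (b c).toMul
    have h' : α (β (upp a)) v * v = 1 := congrArg Additive.toMul h
    have hord : Odd (orderOf (β (upp a))) := by
      refine (hp.odd_of_ne_two (by omega)).of_dvd_nat (orderOf_dvd_of_pow_eq_one ?_)
      rw [← map_pow]
      have hpow : ∀ n : ℕ, upp a ^ n = upp ((n : F) * a) := by
        intro n
        induction n with
        | zero => simp [upp_zero]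
        | succ n ih => rw [pow_succ, ih, Nat.cast_succ, add_mul, one_mul, upp_add]
      rw [hpow, CharP.cast_eq_zero, zero_mul, upp_zero, map_one]
    have hk1 : β (upp a) ≠ 1 := by
      intro h1
      have h1' : q (upp a) = 1 := hφ (h1.trans (map_one φ).symm)
      obtain ⟨r, -, hr⟩ := Matrix.SpecialLinearGroup.mem_center_iff.mp ((QuotientGroup.eq_one_iff (upp a)).mp h1')
      exact ha (by simpa [upp] using (congrFun (congrFun hr 0) 1).symm)
    have hvv : v * v = 1 := Subtype.ext (by simpa [sq] using hV2 (v : G) v.2)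
    have hv1 := hfix _ hk1 hord v (mul_right_cancel (h'.trans hvv.symm))
    exact congrArg Additive.ofMul hv1

end CfsgLib.CNStruct
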