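import Cfsg.Agent.Lib.ThreeOrd.EqTop
import Cfsg.Agent.Lib.ThreeOrd.Models
import Cfsg.Agent.Lib.Linear.SL2
import Cfsg.Agent.Lib.Linear.PSL2Nine

/-!
# The socle `PSL(2, q)` of a CIT group
-/

set_option autoImplicit false
set_option linter.style.haveILetI false

namespace CfsgLib.CNStruct

open Matrix CfsgLib.CIT

/-- The 3-Sylow subgroups of `PSL(2, F)` are cyclic outside characteristic three. -/
theorem isCyclic_sylow_three_psl {F : Type*} [Field F] [Fintype F] (h3 : (3 : F) ≠ 0)
    [Fact (Nat.Prime 3)] (R : Sylow 3 (ProjectiveSpecialLinearGroup (Fin 2) F)) :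
    IsCyclic (R : Subgroup (ProjectiveSpecialLinearGroup (Fin 2) F)) := by
  obtain ⟨p, hchar⟩ := CharP.exists F
  haveI := Fact.mk (CharP.char_is_prime F p)
  have hsurj : Function.Surjective
      (QuotientGroup.mk' (Subgroup.center (Matrix.SpecialLinearGroup (Fin 2) F))) :=
    QuotientGroup.mk'_surjective _
  obtain ⟨R₀, rfl⟩ := Sylow.mapSurjective_surjective hsurj 3 R
  haveI := CfsgLib.Linear.isCyclic_sylow_SL2 p 3 (by norm_num) (fun h => h3 (by
    subst h; exact_mod_cast CharP.cast_eq_zero F 3)) R₀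
  exact isCyclic_of_surjective
    ((QuotientGroup.mk' _).subgroupMap (R₀ : Subgroup (Matrix.SpecialLinearGroup (Fin 2) F)))
    ((QuotientGroup.mk' _).subgroupMap_surjective _)

/-- An element of order three and an element inverting it. -/
theorem exists_inverted_three {F : Type*} [Field F] [Fintype F] (h3 : (3 : F) ≠ 0) :
    ∃ x i : ProjectiveSpecialLinearGroup (Fin 2) F, orderOf x = 3 ∧ i * x * i⁻¹ = x⁻¹ := by
  obtain ⟨a, c, hac⟩ : ∃ a c : F, a * a - a * c + c * c = -1 := by
    by_cases h2 : (2 : F) = 0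
    · exact ⟨1, 0, by linear_combination h2⟩
    · obtain ⟨u, w, huw⟩ := FiniteField.exists_root_sum_quadratic
        (f := Polynomial.X ^ 2 + Polynomial.C (1 : F)) (g := Polynomial.C 3 * Polynomial.X ^ 2)
        (by exact Polynomial.degree_X_pow_add_C (by norm_num) _)
        (by rw [Polynomial.degree_C_mul_X_pow 2 h3]; rfl)
        (by
          rcases Nat.even_or_odd (Fintype.card F) with he | ho
          · exfalso
            refine h2 ?_
            obtain ⟨p, hchar⟩ := CharP.exists F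
            obtain ⟨n, hp, hn⟩ := FiniteField.card F p
            have : p = 2 := ((Nat.prime_dvd_prime_iff_eq Nat.prime_two hp).mp
              (Nat.prime_two.dvd_of_dvd_pow (hn ▸ even_iff_two_dvd.mp he))).symm
            subst this
            exact_mod_cast CharP.cast_eq_zero F 2
          · exact Nat.odd_iff.mp ho)
      simp at huw
      exact ⟨u + w, 2 * w, by linear_combination huw⟩
  let x : Matrix.SpecialLinearGroup (Fin 2) F := ⟨!![0, -1; 1, -1], by simp [det_fin_two]⟩
  let i : Matrix.SpecialLinearGroup (Fin 2) F := ⟨!![a, c - a; c, -a], by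
    simp [det_fin_two]; linear_combination (-1 : F) * hac⟩
  set π := QuotientGroup.mk' (Subgroup.center (Matrix.SpecialLinearGroup (Fin 2) F))
  haveI : Fact (Nat.Prime 3) := ⟨Nat.prime_three⟩
  refine ⟨π x, π i, orderOf_eq_prime ?_ fun h => ?_, ?_⟩
  · rw [← map_pow, show x ^ 3 = 1 from ?_, map_one]
    rw [pow_succ, sq]
    refine Subtype.ext ?_
    show x.1 * x.1 * x.1 = 1
    ext k l; fin_cases k <;> fin_cases l <;> simp [x, Matrix.mul_apply, Fin.sum_univ_two]
  · obtain ⟨r, -, hr⟩ := Matrix.SpecialLinearGroup.mem_center_iff.mp ((QuotientGroup.eq_one_iff x).mp h)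
    simpa [x] using congrFun (congrFun hr 1) 0
  · rw [← map_inv, ← map_inv, ← map_mul, ← map_mul]
    refine congrArg π (eq_inv_of_mul_eq_one_left ?_)
    rw [show i * x * i⁻¹ * x = (i * x) * (i⁻¹ * x) by group, mul_eq_one_iff_eq_inv]
    rw [_root_.mul_inv_rev, _root_.inv_inv, eq_inv_mul_iff_mul_eq]
    refine Subtype.ext ?_
    show x.1 * (i.1 * x.1) = i.1
    ext k l; fin_cases k <;> fin_cases l <;>
      simp [x, i, Matrix.mul_apply, Fin.sum_univ_two] <;> ring

variable {X : Type*} [Group X] [Finite X] {T : Subgroup X} [T.Normal]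

/-- A socle `PSL(2, q)`, `3 ∤ q`, of 2-power index is everything. -/
theorem eq_top_of_psl (hC : IsCIT X) (hq : IsPGroup 2 (X ⧸ T)) {F : Type*} [Field F] [Fintype F]
    (h3 : (3 : F) ≠ 0) (e : T ≃* ProjectiveSpecialLinearGroup (Fin 2) F) : T = ⊤ := by
  haveI : Fact (Nat.Prime 3) := ⟨Nat.prime_three⟩
  obtain ⟨x, i, hx, hi⟩ := exists_inverted_three h3
  refine CfsgLib.ThreeOrd.eq_top_of_inverted hC hq Nat.prime_three (by norm_num)
    (x := ((e.symm x : T) : X)) (i := ((e.symm i : T) : X)) (e.symm x).2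
    (by rw [Subgroup.orderOf_coe, MulEquiv.orderOf_eq, hx]) (e.symm i).2
    (congrArg Subtype.val (show e.symm i * e.symm x * (e.symm i)⁻¹ = (e.symm x)⁻¹ by
      rw [← map_inv, ← map_mul, ← map_mul, hi, map_inv])) fun R => ?_
  haveI : IsCyclic ↥((R : Subgroup T).map e.toMonoidHom) :=
    isCyclic_sylow_three_psl h3 (R.mapSurjective (f := e.toMonoidHom) e.surjective)
  exact isCyclic_of_injective ((R : Subgroup T).equivMapOfInjective e.toMonoidHom e.injective).toMonoidHom
    ((R : Subgroup T).equivMapOfInjective e.toMonoidHom e.injective).injective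

/-- A socle of 2-power index with an inverted element of order five has index at most two. -/
theorem index_le_two (hC : IsCIT X) (hq : IsPGroup 2 (X ⧸ T)) {x i : X} (hxT : x ∈ T)
    (hx : orderOf x = 5) (hiT : i ∈ T) (hi : i * x * i⁻¹ = x⁻¹) (h25 : ¬ 5 ^ 2 ∣ Nat.card T) :
    T.index ≤ 2 := by
  haveI : Fact (Nat.Prime 5) := ⟨by norm_num⟩
  haveI : Fact (Nat.Prime 2) := ⟨Nat.prime_two⟩
  set A : Subgroup X := Subgroup.zpowers x with hA
  have hAT : A ≤ T := Subgroup.zpowers_le.mpr hxT
  have hAc : Nat.card A = 5 := by rw [hA, Nat.card_zpowers, hx]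
  have hA' : Nat.card (A.subgroupOf T) = 5 := by
    rw [Nat.card_congr (Subgroup.subgroupOfEquivOfLe hAT).toEquiv, hAc]
  have hP : IsPGroup 5 (A.subgroupOf T) := IsPGroup.of_card (n := 1) (by rw [hA', pow_one])
  let P : Sylow 5 T := hP.toSylow (by
    intro hd
    refine h25 ?_
    rw [← (A.subgroupOf T).card_mul_index, hA', sq]
    exact Nat.mul_dvd_mul_left 5 hd)
  have hPmap : (P : Subgroup T).map T.subtype = A := by
    show (A.subgroupOf T).map T.subtype = A
    rw [Subgroup.subgroupOf_map_subtype, inf_eq_left.mpr hAT]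
  have hfr := Sylow.normalizer_sup_eq_top P
  rw [hPmap] at hfr
  set N := Subgroup.normalizer (A : Set X) with hN
  let φ : N →* MulAut A := A.normalizerMonoidHom
  have hodd : ∀ g : X, g * x = x * g → g ∈ T := by
    intro g hg
    obtain ⟨k, hk⟩ := hq (QuotientGroup.mk' T g)
    have h1 : g ^ 2 ^ k ∈ T := (QuotientGroup.eq_one_iff _).mp (by
      show QuotientGroup.mk' T (g ^ 2 ^ k) = 1
      rw [map_pow, hk])
    rcases Nat.even_or_odd (orderOf g) with he | ho
    · exfalso
      have h2 := orderOf_pow_orderOf_div (orderOf_pos g).ne' (even_iff_two_dvd.mp he)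
      have h5 := eq_one_of_commute_invol hC h2 ((show Commute g x from hg).pow_left _)
        (by rw [hx]; decide)
      rw [h5, orderOf_one] at hx
      omega
    · obtain ⟨l, hl⟩ := exists_pow_eq_self_of_coprime (x := g) (n := 2 ^ k)
        ((Nat.coprime_two_left.mpr ho).pow_left k)
      rw [← hl]
      exact pow_mem h1 l
  have hker : φ.ker ≤ T.subgroupOf N := by
    intro g hg
    have h := congrArg Subtype.val (DFunLike.congr_fun (MonoidHom.mem_ker.mp hg)
      ⟨x, Subgroup.mem_zpowers x⟩)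
    exact hodd g (mul_inv_eq_iff_eq_mul.mp h)
  have hiN : i ∈ N := by
    have hi' : i⁻¹ * x * i = x⁻¹ := by
      calc i⁻¹ * x * i = i⁻¹ * (i * x * i⁻¹)⁻¹ * i := by rw [hi, inv_inv]
        _ = x⁻¹ := by group
    refine Subgroup.mem_normalizer_iff.mpr fun a => ⟨fun ha => ?_, fun ha => ?_⟩
    · obtain ⟨n, rfl⟩ := Subgroup.mem_zpowers_iff.mp ha
      rw [← conj_zpow, hi]
      exact Subgroup.zpow_mem _ (inv_mem (Subgroup.mem_zpowers x)) _
    · obtain ⟨n, hn⟩ := Subgroup.mem_zpowers_iff.mp ha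
      have h : a = (i⁻¹ * x * i) ^ n := by
        calc a = i⁻¹ * (i * a * i⁻¹) * i := by group
          _ = i⁻¹ * x ^ n * (i⁻¹)⁻¹ := by rw [← hn, inv_inv]
          _ = (i⁻¹ * x * (i⁻¹)⁻¹) ^ n := conj_zpow.symm
          _ = _ := by rw [inv_inv]
      rw [h, hi']
      exact Subgroup.zpow_mem _ (inv_mem (Subgroup.mem_zpowers x)) _
  -- the image of `N ∩ T` is nontrivial
  have himg : ((T.subgroupOf N).map φ) ≠ ⊥ := by
    intro h
    have h1 : φ ⟨i, hiN⟩ = 1 := by
      rw [← Subgroup.mem_bot, ← h]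
      exact Subgroup.mem_map_of_mem φ hiT
    have h2 := congrArg Subtype.val (DFunLike.congr_fun h1 ⟨x, Subgroup.mem_zpowers x⟩)
    have h3 : i * x * i⁻¹ = x := h2
    rw [hi] at h3
    have h4 : x ^ 2 = 1 := by rw [sq, ← mul_inv_cancel x, h3]
    have := orderOf_dvd_of_pow_eq_one h4
    rw [hx] at this
    norm_num at this
  have hcardAut : Nat.card (MulAut A) = 4 := by
    haveI : IsCyclic A := inferInstance
    rw [IsCyclic.card_mulAut, hAc, Nat.totient_prime (by norm_num)]
  have hindex : T.index = (T.subgroupOf N).index := by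
    calc T.index = T.relIndex (N ⊔ T) := by rw [hfr, Subgroup.relIndex_top_right]
      _ = T.relIndex N := Subgroup.relIndex_sup_right _ _
  rw [hindex]
  have hle : (T.subgroupOf N).index * Nat.card ((T.subgroupOf N).map φ) ≤ 4 := by
    have h1 : (T.subgroupOf N).index = ((T.subgroupOf N).map φ).relIndex φ.range := by
      conv_rhs => rw [MonoidHom.range_eq_map]
      rw [Subgroup.relIndex_map_map, sup_eq_left.mpr hker, top_sup_eq, Subgroup.relIndex_top_right]
    rw [h1]
    calc ((T.subgroupOf N).map φ).relIndex φ.range * Nat.card ((T.subgroupOf N).map φ)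
        = Nat.card φ.range := by
          rw [mul_comm]
          have hle' : (T.subgroupOf N).map φ ≤ φ.range := Subgroup.map_le_range φ _
          rw [← Nat.card_congr (Subgroup.subgroupOfEquivOfLe hle').toEquiv]
          exact Subgroup.card_mul_index _
      _ ≤ Nat.card (MulAut A) := Subgroup.card_le_card_group _
      _ = 4 := hcardAut
  have h2 : 2 ≤ Nat.card ((T.subgroupOf N).map φ) := Subgroup.one_lt_card_iff_ne_bot _ |>.mpr himg
  nlinarith

/-- A socle `PSL(2, 9)` has index at most two. -/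
theorem index_le_two_nine (hC : IsCIT X) (hq : IsPGroup 2 (X ⧸ T)) {F : Type*} [Field F]
    [Fintype F] (hF : Fintype.card F = 9) (e : T ≃* ProjectiveSpecialLinearGroup (Fin 2) F) :
    T.index ≤ 2 := by
  obtain ⟨e6⟩ := CfsgLib.Linear.PSL2Nine.exists_PSL2_equiv_A6 hF
  let f := e.trans e6
  let a : Equiv.Perm (Fin 6) := Equiv.swap 0 1 * Equiv.swap 1 2 * Equiv.swap 2 3 * Equiv.swap 3 4
  let b : Equiv.Perm (Fin 6) := Equiv.swap 1 4 * Equiv.swap 2 3
  have ha : a ∈ alternatingGroup (Fin 6) := by simp [a]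
  have hb : b ∈ alternatingGroup (Fin 6) := by simp [b]
  have ha5 : a ^ 5 = 1 := by decide +kernel
  have hab : b * a * b⁻¹ = a⁻¹ := by decide +kernel
  have ha1 : a ≠ 1 := by decide +kernel
  haveI : Fact (Nat.Prime 5) := ⟨by norm_num⟩
  refine index_le_two hC hq (x := ((f.symm ⟨a, ha⟩ : T) : X)) (i := ((f.symm ⟨b, hb⟩ : T) : X))
    (f.symm _).2 ?_ (f.symm _).2 ?_ ?_
  · rw [Subgroup.orderOf_coe, MulEquiv.orderOf_eq]
    exact orderOf_eq_prime (Subtype.ext ha5) fun h => ha1 (congrArg Subtype.val h)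
  · refine congrArg Subtype.val (show f.symm ⟨b, hb⟩ * f.symm ⟨a, ha⟩ * (f.symm ⟨b, hb⟩)⁻¹ =
      (f.symm ⟨a, ha⟩)⁻¹ from ?_)
    rw [← map_inv, ← map_mul, ← map_mul, ← map_inv]
    exact congrArg f.symm (Subtype.ext hab)
  · rw [Nat.card_congr f.toEquiv, nat_card_alternatingGroup, Nat.card_fin]
    decide

end CfsgLib.CNStruct
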