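import Cfsg.Agent.Lib.CNStruct.CITOfCN
import Cfsg.Agent.Lib.CNStruct.PrimeFpf
import Cfsg.Agent.Lib.CNStruct.Socle
import Cfsg.Agent.Lib.EPPOSimple.FourPrimes
import Cfsg.Agent.Lib.TwoR.CITList
import Cfsg.Agent.Lib.Case.SL2FpfGroup
import Cfsg.Agent.Lib.SuzukiMatrix.Bridge

/-!
# The structure of non-solvable CN groups, given the structure of fixed-point-free Suzuki extensions
-/

set_option autoImplicit false
set_option linter.style.haveILetI false

namespace CfsgLib.CNStruct

open Matrix CfsgLib.CIT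

universe u

/-- An elementary abelian group of order nine in `PSL(2, 9)`. -/
theorem exists_three_pair_nine {F : Type*} [Field F] [Fintype F] (hF : Fintype.card F = 9) :
    ∃ x y : ProjectiveSpecialLinearGroup (Fin 2) F, x ^ 3 = 1 ∧ y ^ 3 = 1 ∧ x * y = y * x ∧
      x ≠ 1 ∧ y ≠ 1 ∧ x * y ≠ 1 ∧ x⁻¹ * y ≠ 1 := by
  classical
  haveI := CfsgLib.ThreeOrd.charP_of_card (F := F) (p := 3) (n := 2) Nat.prime_three two_ne_zero
    (by rw [hF]; norm_num)
  obtain ⟨z, hz⟩ : ∃ z : F, z ∉ ({0, 1, -1} : Finset F) := by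
    by_contra h
    push Not at h
    have := Finset.card_le_card (fun a (_ : a ∈ (Finset.univ : Finset F)) => h a)
    rw [Finset.card_univ, hF] at this
    exact absurd (this.trans Finset.card_le_three) (by norm_num)
  simp only [Finset.mem_insert, Finset.mem_singleton, not_or] at hz
  let f := CfsgLib.ThreeOrd.uniHom (F := F)
  have hinj : ∀ b : F, f (Multiplicative.ofAdd b) = 1 → b = 0 := fun b hb =>
    CfsgLib.ThreeOrd.eq_zero_of_uni_central ((QuotientGroup.eq_one_iff _).mp hb)
  have h3 : ∀ b : F, f (Multiplicative.ofAdd b) ^ 3 = 1 := fun b => by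
    rw [← map_pow, ← ofAdd_nsmul, nsmul_eq_mul, CharP.cast_eq_zero, zero_mul, ofAdd_zero, map_one]
  refine ⟨f (Multiplicative.ofAdd 1), f (Multiplicative.ofAdd z), h3 1, h3 z, ?_,
    fun h => one_ne_zero (hinj 1 h), fun h => hz.1 (hinj z h), fun h => ?_, fun h => ?_⟩
  · exact ((Commute.all _ _).map f).eq
  · rw [← map_mul, ← ofAdd_add] at h
    exact hz.2.2 (by linear_combination hinj _ h)
  · rw [← map_inv, ← map_mul, ← ofAdd_neg, ← ofAdd_add] at h
    exact hz.2.1 (by linear_combination hinj _ h)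

/-- The conclusion for a quotient isomorphic to `PSL(2, 2^n)`. -/
theorem elementary_of_psl_even {G : Type*} [Group G] [Finite G] (hC : IsCIT G) (W : Subgroup G)
    [W.Normal] (hW : IsPGroup 2 W) {F : Type} [Field F] [Fintype F] [CharP F 2]
    (h4 : 4 ≤ Fintype.card F) (e : G ⧸ W ≃* ProjectiveSpecialLinearGroup (Fin 2) F) :
    (∀ a ∈ W, ∀ b ∈ W, a * b = b * a) ∧ ∀ a ∈ W, a * a = 1 := by
  haveI : Fact (Nat.Prime 3) := ⟨Nat.prime_three⟩
  let eS := e.trans (CfsgLib.CITApp.slEquivPSL (F := F) CharTwo.two_eq_zero).symm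
  let φ := eS.toMonoidHom.comp (QuotientGroup.mk' W)
  have hker : φ.ker = W := by
    ext g
    rw [MonoidHom.mem_ker]
    show eS (QuotientGroup.mk' W g) = 1 ↔ g ∈ W
    rw [MulEquiv.map_eq_one_iff]
    exact QuotientGroup.eq_one_iff g
  obtain ⟨a, _, ha, -⟩ := exists_inverted_three (F := F) (fun h => one_ne_zero (by
    linear_combination h - CharTwo.two_eq_zero (R := F)))
  obtain ⟨x, hx⟩ := exists_prime_orderOf_dvd_card' 3 (G := G) (by
    refine (Dvd.dvd.trans ?_ W.card_quotient_dvd_card)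
    rw [Nat.card_congr e.toEquiv, ← ha]
    exact orderOf_dvd_natCard a)
  obtain ⟨hcomm, hsq, -⟩ := CfsgLib.Case.SL2Fpf.higman φ
    (eS.surjective.comp (QuotientGroup.mk'_surjective W)) h4 W hker hW x hx (fun w hw h => by
      by_contra hw1
      obtain ⟨k, hk⟩ := hW ⟨w, hw⟩
      have h1 := CfsgLib.CITApp.eq_one_of_commute_two_elem hC (congrArg Subtype.val hk) hw1
        (show Commute w x from (mul_inv_eq_iff_eq_mul.mp h).symm) (by rw [hx]; decide)
      rw [h1, orderOf_one] at hx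
      omega)
  exact ⟨hcomm, fun a ha => by rw [← sq]; exact hsq a ha⟩

/-- A non-solvable CN group is simple, has a subgroup `PSL(2, 9)` of index two, or is an extension
of an elementary abelian 2-group by `PSL(2, 2^n)` or a Suzuki group. -/
theorem structure_of_cn {G : Type u} [Group G] [Finite G]
    (hSz : ∀ (F : Type) [Field F] [Fintype F] (m : ℕ), CfsgLib.Suzuki.SzHyp F m →
      ∀ (N : Subgroup G) [N.Normal], IsPGroup 2 N →
        ∀ π : G →* Cfsg.Sz F m, Function.Surjective π → π.ker = N →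
          (∀ g : G, Odd (orderOf g) → g ≠ 1 → ∀ n ∈ N, g * n = n * g → n = 1) →
          (∀ a ∈ N, ∀ b ∈ N, a * b = b * a) ∧ ∀ x ∈ N, x * x = 1)
    (hG : ¬ Group.IsSolvable G) (hCN : Cfsg.IsCNGroup G) :
    (IsSimpleGroup G ∧ ¬ IsMulCommutative G) ∨
    (∃ (N : Subgroup G), N.Normal ∧ N.index = 2 ∧ ∃ (F : Type) (_ : Field F) (_ : Fintype F),
        Fintype.card F = 9 ∧ Nonempty (N ≃* Matrix.ProjectiveSpecialLinearGroup (Fin 2) F)) ∨
    (∃ (N : Subgroup G) (_ : N.Normal), N ≠ ⊥ ∧ IsPGroup 2 N ∧ IsMulCommutative N ∧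
        (∀ x ∈ N, x * x = 1) ∧
        ((∃ (F : Type) (_ : Field F) (_ : Fintype F), CharP F 2 ∧ 4 ≤ Fintype.card F ∧
            Nonempty (G ⧸ N ≃* Matrix.ProjectiveSpecialLinearGroup (Fin 2) F)) ∨
          Cfsg.IsSuzuki (G ⧸ N))) := by
  by_cases hsimple : IsSimpleGroup G
  · exact Or.inl ⟨hsimple, fun h => hG (Group.isSolvable_of_comm fun a b => h.is_comm.comm a b)⟩
  right
  haveI : Fact (Nat.Prime 2) := ⟨Nat.prime_two⟩
  have hC : IsCIT G := isCIT hG hCN
  obtain ⟨T, hTn, hTs, hab, -, hpq, hCX, -⟩ := CfsgLib.CITApp.exists_socle_classified hC hG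
    (fun T hs hab' hC' => by haveI := hs; exact classification hab' hC')
  haveI := hTn
  haveI := hTs
  set W := Cfsg.pCore 2 G with hWdef
  have hW : IsPGroup 2 W := CfsgLib.Solvable.pCore_isPGroup 2 G
  have hCT : IsCIT T := hCX.subgroup T
  -- if the socle is everything then the core is nontrivial
  have hne : T = ⊤ → W ≠ ⊥ := fun hT hW1 => hsimple
    (((QuotientGroup.quotientBot (G := G)).symm.trans
      (QuotientGroup.quotientMulEquivOfEq hW1.symm)).trans
      (Subgroup.topEquiv.symm.trans (MulEquiv.subgroupCongr hT.symm))).isSimpleGroup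
  have heven : ∀ (F : Type) [Field F] [Fintype F] [CharP F 2], 4 ≤ Fintype.card F →
      (T ≃* ProjectiveSpecialLinearGroup (Fin 2) F) →
      ∃ (N : Subgroup G) (_ : N.Normal), N ≠ ⊥ ∧ IsPGroup 2 N ∧ IsMulCommutative N ∧
        (∀ x ∈ N, x * x = 1) ∧
        ((∃ (F : Type) (_ : Field F) (_ : Fintype F), CharP F 2 ∧ 4 ≤ Fintype.card F ∧
            Nonempty (G ⧸ N ≃* Matrix.ProjectiveSpecialLinearGroup (Fin 2) F)) ∨
          Cfsg.IsSuzuki (G ⧸ N)) := by
    intro F _ _ _ h4 e
    have hT : T = ⊤ := eq_top_of_psl hCX hpq (fun h => one_ne_zero (by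
      linear_combination h - CharTwo.two_eq_zero (R := F))) e
    let eX := (Subgroup.topEquiv.symm.trans (MulEquiv.subgroupCongr hT.symm)).trans e
    obtain ⟨hc, hs⟩ := elementary_of_psl_even hC W hW h4 eX
    exact ⟨W, inferInstance, hne hT, hW, ⟨⟨fun a b => Subtype.ext (hc a a.2 b b.2)⟩⟩, hs,
      Or.inl ⟨F, inferInstance, inferInstance, inferInstance, h4, ⟨eX⟩⟩⟩
  rcases CfsgLib.TwoR.cit_list_iso hab hCT with
    ⟨F, iF, iFF, ⟨e⟩⟩ | ⟨F, iF, iFF, hF, ⟨e⟩⟩ | ⟨F, iF, iFF, m, hm, hF, ⟨e⟩⟩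
  · have h4 := CfsgLib.EPPOSimple.four_le_card hab e
    rcases psl_two_card hCT F ⟨e⟩ with h9 | ⟨n, hn⟩ | ⟨hp, -⟩
    · left
      obtain ⟨x, y, hx, hy, hxy, hx1, hy1, hxy1, hxy2⟩ := exists_three_pair_nine h9
      let j : ProjectiveSpecialLinearGroup (Fin 2) F →* G ⧸ W := T.subtype.comp e.symm.toMonoidHom
      have hj : Function.Injective j := T.subtype_injective.comp e.symm.injective
      have hne1 : ∀ a, a ≠ 1 → j a ≠ 1 := fun a ha h => ha (hj (h.trans (map_one j).symm))
      have hW1 : W = ⊥ := CfsgLib.EPPOSimple.eq_bot_of_three_pair hC W hW (j x) (j y)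
        (by rw [← map_pow, hx, map_one]) (by rw [← map_pow, hy, map_one])
        (by rw [← map_mul, ← map_mul, hxy]) (hne1 x hx1) (hne1 y hy1)
        (by rw [← map_mul]; exact hne1 _ hxy1)
        (by rw [← map_inv, ← map_mul]; exact hne1 _ hxy2)
      have hidx : T.index = 2 := by
        have h2 := index_le_two_nine hCX hpq h9 e
        have h0 : T.index ≠ 0 := Subgroup.index_ne_zero_of_finite
        have h1 : T.index ≠ 1 := fun h => hne (Subgroup.index_eq_one.mp h) hW1
        omega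
      let ε : G ⧸ W ≃* G :=
        (QuotientGroup.quotientMulEquivOfEq hW1).trans QuotientGroup.quotientBot
      refine ⟨T.map ε.toMonoidHom, hTn.map _ ε.surjective, ?_, F, iF, iFF, h9,
        ⟨(T.equivMapOfInjective ε.toMonoidHom ε.injective).symm.trans e⟩⟩
      rw [Subgroup.index_map_of_bijective ε.bijective, hidx]
    · right
      have hn0 : n ≠ 0 := fun h => by rw [h, pow_zero] at hn; omega
      haveI : CharP F 2 := CharTwo.of_one_ne_zero_of_two_eq_zero one_ne_zero
        (CfsgLib.CITApp.two_eq_zero_of_card hn0 hn)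
      exact heven F h4 e
    · rcases Nat.lt_or_ge (Fintype.card F) 7 with h7 | h7
      · right
        have h5 : Fintype.card F = 5 := by
          generalize Fintype.card F = q at hp h4 h7 ⊢
          interval_cases q <;> first | rfl | exact absurd hp (by norm_num)
        obtain ⟨K, iK, iKF, hK, ⟨eK⟩⟩ := CfsgLib.EPPOSimple.psl_four_of_five h5 e
        haveI : CharP K 2 := CharTwo.of_one_ne_zero_of_two_eq_zero one_ne_zero
          (CfsgLib.CITApp.two_eq_zero_of_card (m := 2) two_ne_zero (by rw [hK]; norm_num))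
        exact heven K (by rw [hK]) eK
      · exfalso
        have hT : T = ⊤ := eq_top_of_psl hCX hpq (fun h => by
          obtain ⟨p, hchar⟩ := CharP.exists F
          obtain ⟨k, hp', hk⟩ := FiniteField.card F p
          haveI := hchar
          have h3 : p ∣ 3 := (CharP.cast_eq_zero_iff F p 3).mp (by exact_mod_cast h)
          rw [hk] at hp h7
          rw [hp.eq_one_of_pow, pow_one] at h7
          have := Nat.le_of_dvd (by norm_num) h3
          omega) e
        exact hne hT (eq_bot_of_psl_two_prime hC W hW hp h7 (T.subtype.comp e.symm.toMonoidHom)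
          (T.subtype_injective.comp e.symm.injective))
  · exfalso
    obtain ⟨h73, hsq⟩ := CfsgLib.ThreeOrd.sevenThree_psl_three (F := F) hF
    obtain ⟨a, b, ha, hb, hab'⟩ := h73
    have hnc : ¬ Commute a b := fun hc => by
      have e1 : a ^ 2 = a := by rw [← hab', hc.symm.eq, mul_inv_cancel_right]
      rw [sq, mul_eq_left] at e1
      rw [e1, orderOf_one] at ha
      omega
    have hT : T = ⊤ := by
      refine CfsgLib.ThreeOrd.eq_top_of_pair hCX hpq (x := ((e.symm a : T) : G ⧸ W))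
        (y := ((e.symm b : T) : G ⧸ W)) (r := 7) (s := 3) (by norm_num) (by norm_num)
        Nat.prime_three (by norm_num) (e.symm a).2 (e.symm b).2
        (by rw [Subgroup.orderOf_coe, MulEquiv.orderOf_eq, ha])
        (by rw [Subgroup.orderOf_coe, MulEquiv.orderOf_eq, hb])
        (by rwa [Nat.card_congr e.toEquiv]) ?_ fun hc => hnc ?_
      · refine ⟨2, ?_⟩
        show ((e.symm a : T) : G ⧸ W) ^ (2 : ℤ) = _
        rw [← Subgroup.coe_inv, ← Subgroup.coe_mul, ← Subgroup.coe_mul, ← map_inv, ← map_mul,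
          ← map_mul, hab', map_pow, Subgroup.coe_pow, zpow_two, sq]
      · exact e.symm.injective (by rw [map_mul, map_mul]; exact Subtype.ext hc.eq)
    let j : ProjectiveSpecialLinearGroup (Fin 3) F →* G ⧸ W := T.subtype.comp e.symm.toMonoidHom
    have hj : Function.Injective j := T.subtype_injective.comp e.symm.injective
    have hne1 : ∀ a, a ≠ 1 → j a ≠ 1 := fun a ha h => ha (hj (h.trans (map_one j).symm))
    obtain ⟨x, y, hx, hy, hxy, hx1, hy1, hxy1, hxy2⟩ := CfsgLib.EPPOSimple.exists_three_pair hF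
    exact hne hT (CfsgLib.EPPOSimple.eq_bot_of_three_pair hC W hW (j x) (j y)
      (by rw [← map_pow, hx, map_one]) (by rw [← map_pow, hy, map_one])
      (by rw [← map_mul, ← map_mul, hxy]) (hne1 x hx1) (hne1 y hy1)
      (by rw [← map_mul]; exact hne1 _ hxy1)
      (by rw [← map_inv, ← map_mul]; exact hne1 _ hxy2))
  · right
    have hyp : CfsgLib.Suzuki.SzHyp F m := ⟨hm, hF⟩
    have hT := CfsgLib.EPPOSimple.eq_top_sz hCX T hpq hyp e
    let eT : G ⧸ W ≃* T := Subgroup.topEquiv.symm.trans (MulEquiv.subgroupCongr hT.symm)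
    let eX := (eT.trans e).trans (CfsgLib.SuzukiMatrix.szEquiv hyp).symm
    have hker : (eX.toMonoidHom.comp (QuotientGroup.mk' W)).ker = W := by
      ext g
      rw [MonoidHom.mem_ker]
      show eX (QuotientGroup.mk' W g) = 1 ↔ g ∈ W
      rw [MulEquiv.map_eq_one_iff]
      exact QuotientGroup.eq_one_iff g
    obtain ⟨hc, hs⟩ := hSz F m hyp W hW (eX.toMonoidHom.comp (QuotientGroup.mk' W))
      (eX.surjective.comp (QuotientGroup.mk'_surjective W)) hker (fun g hodd hg1 w hw h => by
        by_contra hw1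
        obtain ⟨k, hk⟩ := hW ⟨w, hw⟩
        exact hg1 (CfsgLib.CITApp.eq_one_of_commute_two_elem hC (congrArg Subtype.val hk) hw1
          (show Commute w g from h.symm) hodd))
    refine ⟨W, inferInstance, hne hT, hW, ⟨⟨fun a b => Subtype.ext (hc a a.2 b b.2)⟩⟩, hs,
      Or.inr ⟨eT.isSimpleGroup, m, hm, ?_⟩⟩
    rw [Nat.card_congr (eT.trans e).toEquiv]
    exact CfsgLib.SuzukiMatrix.card_lieSz hyp

end CfsgLib.CNStruct
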