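import Cfsg.Agent.S0205
import Cfsg.Agent.Lib.CN.Reduction
import Cfsg.Agent.Lib.CITApp.Reduction
import Cfsg.Agent.Lib.OddOrder.Fitting
import Mathlib.GroupTheory.FixedPointFree

/-!
# Normal nilpotent subgroups of a non-solvable CN group are 2-groups
-/

set_option autoImplicit false
set_option linter.style.haveILetI false

namespace CfsgLib.CNStruct

open Subgroup CfsgLib.CN

variable {G : Type*} [Group G] [Finite G]

/-- A normal nilpotent subgroup of order divisible by `p` contains a normal elementary abelian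
`p`-subgroup. -/
theorem exists_normal_elementary {N : Subgroup G} [N.Normal] (hN : Group.IsNilpotent N) {p : ℕ}
    [Fact p.Prime] (hd : p ∣ Nat.card N) :
    ∃ V : Subgroup G, V.Normal ∧ IsMulCommutative V ∧ IsPGroup p V ∧ V ≠ ⊥ ∧ V ≤ N ∧
      N ≤ centralizer (V : Set G) := by
  obtain ⟨z, ⟨hzN, hzc⟩, hzo⟩ := OddOrder.exists_center_orderOf_eq hN hd
  let V : Subgroup G :=
    { carrier := {a | (a ∈ N ∧ ∀ n ∈ N, n * a = a * n) ∧ a ^ p = 1}
      one_mem' := ⟨⟨N.one_mem, fun n _ => by simp⟩, one_pow p⟩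
      mul_mem' := fun {a b} ha hb => ⟨⟨N.mul_mem ha.1.1 hb.1.1, fun n hn => by
        rw [← mul_assoc, ha.1.2 n hn, mul_assoc, hb.1.2 n hn, ← mul_assoc]⟩, by
        rw [(show Commute a b from hb.1.2 a ha.1.1).mul_pow, ha.2, hb.2, one_mul]⟩
      inv_mem' := fun {a} ha => ⟨⟨N.inv_mem ha.1.1, fun n hn =>
        ((show Commute n a from ha.1.2 n hn).inv_right).eq⟩, by rw [inv_pow, ha.2, inv_one]⟩ }
  refine ⟨V, ⟨fun a ha g => ⟨⟨‹N.Normal›.conj_mem a ha.1.1 g, fun n hn => ?_⟩, ?_⟩⟩,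
    ⟨⟨fun a b => Subtype.ext (b.2.1.2 a a.2.1.1)⟩⟩, fun a => ⟨1, ?_⟩, fun h => ?_,
    fun a ha => ha.1.1, fun n hn a ha => (ha.1.2 n hn).symm⟩
  · have h := ha.1.2 (g⁻¹ * n * g) (by simpa using ‹N.Normal›.conj_mem n hn g⁻¹)
    calc n * (g * a * g⁻¹) = g * ((g⁻¹ * n * g) * a) * g⁻¹ := by group
      _ = g * (a * (g⁻¹ * n * g)) * g⁻¹ := by rw [h]
      _ = g * a * g⁻¹ * n := by group
  · rw [conj_pow, ha.2, mul_one, mul_inv_cancel]
  · rw [pow_one]; exact Subtype.ext a.2.2
  · have hzV : z ∈ V := ⟨⟨hzN, fun n hn => hzc n hn⟩, hzo ▸ pow_orderOf_eq_one z⟩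
    rw [h, mem_bot] at hzV
    exact ne_one_of_orderOf_eq Fact.out hzo hzV

variable (hns : ¬ Group.IsSolvable G) (hCN : Cfsg.IsCNGroup G)
include hns hCN

omit hCN in
theorem two_dvd_card_quotient (K : Subgroup G) [K.Normal] (hK : Group.IsSolvable K) :
    2 ∣ Nat.card (G ⧸ K) := by
  by_contra h
  exact hns (CITApp.isSolvable_of_normal K hK
    (Cfsg.Agent.S0205.result (Nat.odd_iff.mpr (Nat.two_dvd_ne_zero.mp h))))

/-- No normal abelian subgroup of odd prime power order. -/
theorem eq_bot_of_abelian {p : ℕ} [hp : Fact p.Prime] (hp2 : p ≠ 2) (V : Subgroup G) [V.Normal]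
    [IsMulCommutative V] (hV : IsPGroup p V) : V = ⊥ := by
  haveI : Fact (Nat.Prime 2) := ⟨Nat.prime_two⟩
  by_contra hV1
  obtain ⟨⟨v, hv⟩, hne⟩ := ne_bot_iff_exists_ne_one.mp hV1
  have hv1 : v ≠ 1 := fun h => hne (Subtype.ext h)
  set K := centralizer (V : Set G) with hK
  have hnil : Group.IsNilpotent K :=
    isNilpotent_of_le (hCN v hv1) (centralizer_le (Set.singleton_subset_iff.mpr hv))
  have hsol : Group.IsSolvable K := by haveI := hnil; infer_instance
  -- a 2-element outside `K`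
  obtain ⟨q, hq⟩ := exists_prime_orderOf_dvd_card' 2 (two_dvd_card_quotient hns K hsol)
  obtain ⟨t₀, ht₀⟩ := QuotientGroup.mk'_surjective K q
  obtain ⟨m, hm, hm1⟩ := exists_pow_pElem (QuotientGroup.mk' K) (y := t₀) (r := 2)
    (by rw [ht₀]; exact ne_one_of_orderOf_eq Nat.prime_two hq)
    (by rw [ht₀]; exact pElem_of_orderOf_eq hq)
  have hout : t₀ ^ m ∉ K := fun h => hm1 ((QuotientGroup.eq_one_iff _).mpr h)
  -- `K` has odd order
  have hKodd : Odd (Nat.card K) := by
    rw [← Nat.not_even_iff_odd]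
    intro he
    obtain ⟨W, hWn, -, hW2, hW1, hWK, -⟩ :=
      exists_normal_elementary (p := 2) hnil (even_iff_two_dvd.mp he)
    haveI := hWn
    obtain ⟨w, hw, hw1, hfix⟩ := exists_fixed hW2 hW1 hm (le_normalizer_of_normal (mem_top _))
    refine hout fun a ha => ?_
    exact commute_of_nilpotent hp2 (hCN w hw1)
      (mem_centralizer_singleton_iff.mpr (hWK hw a ha))
      (mem_centralizer_singleton_iff.mpr hfix) (pElem_of_mem hV ha) hm
  obtain ⟨t, ht⟩ := exists_prime_orderOf_dvd_card' 2 (G := G)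
    ((two_dvd_card_quotient hns K hsol).trans K.card_quotient_dvd_card)
  have htK : t ∉ K := fun h => by
    have := OddOrder.orderOf_dvd_card_of_mem h
    rw [ht] at this
    exact Nat.not_even_iff_odd.mpr hKodd (even_iff_two_dvd.mpr this)
  -- `t` inverts `V`
  have hinv : ∀ s : G, orderOf s = 2 → s ∉ K → ∀ a ∈ V, s * a * s⁻¹ = a⁻¹ := by
    intro s hs hsK a ha
    have hfpf : MonoidHom.FixedPointFree (MulAut.conjNormal (H := V) s).toMonoidHom := by
      intro b hb
      by_contra hb1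
      refine hsK (mem_centralizer_of_fix hCN hp2 hV (pElem_of_orderOf_eq hs) b.2
        (fun h => hb1 (Subtype.ext h)) ?_)
      have h : s * (b : G) * s⁻¹ = b := congrArg Subtype.val hb
      exact mul_inv_eq_iff_eq_mul.mp h
    have hinvol : Function.Involutive (MulAut.conjNormal (H := V) s).toMonoidHom := by
      intro b
      refine Subtype.ext ?_
      show s * (s * (b : G) * s⁻¹) * s⁻¹ = b
      rw [show s * (s * (b : G) * s⁻¹) * s⁻¹ = (s * s) * b * (s * s)⁻¹ by group,
        CfsgLib.Invol.mul_self_eq_one hs]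
      group
    exact congrArg Subtype.val (congrFun (hfpf.coe_eq_inv_of_involutive hinvol) ⟨a, ha⟩)
  have htt : t * t = 1 := CfsgLib.Invol.mul_self_eq_one ht
  have hti : t⁻¹ = t := inv_eq_of_mul_eq_one_right htt
  have hcomm : ∀ g : G, t * g * t⁻¹ * g⁻¹ ∈ K := by
    intro g a ha
    have hgt : g * t * g⁻¹ ∉ K := fun h => htK (by
      simpa [mul_assoc] using (inferInstance : K.Normal).conj_mem _ h g⁻¹)
    have h1 := hinv t ht htK a⁻¹ (inv_mem ha)
    have h2 := hinv _ ((CfsgLib.Invol.orderOf_conj g t).trans ht) hgt a ha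
    rw [inv_inv] at h1
    have h : t * g * t⁻¹ * g⁻¹ * a * (t * g * t⁻¹ * g⁻¹)⁻¹ = a := by
      calc t * g * t⁻¹ * g⁻¹ * a * (t * g * t⁻¹ * g⁻¹)⁻¹
          = t * (g * t * g⁻¹ * a * (g * t * g⁻¹)⁻¹) * t⁻¹ := by
            rw [show t * g * t⁻¹ * g⁻¹ = t * (g * t * g⁻¹) by rw [hti]; group]
            group
        _ = t * a⁻¹ * t⁻¹ := by rw [h2]
        _ = a := h1
    exact (mul_inv_eq_iff_eq_mul.mp h).symm
  have hsurj : Function.Surjective
      ((QuotientGroup.mk' K).comp (centralizer ({t} : Set G)).subtype) := by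
    intro q'
    obtain ⟨g, rfl⟩ := QuotientGroup.mk'_surjective K q'
    set k := t * g * t⁻¹ * g⁻¹ with hk
    obtain ⟨i, hi⟩ : Odd (orderOf k) := CfsgLib.CIT.odd_orderOf_of_mem hKodd (hcomm g)
    set l := k ^ (i + 1) with hl
    have hll : l * l = k := by
      rw [hl, ← pow_add, show i + 1 + (i + 1) = orderOf k + 1 by omega, pow_succ,
        pow_orderOf_eq_one, one_mul]
    have hkinv : t * k * t⁻¹ = k⁻¹ := by
      rw [hk, mul_inv_rev, mul_inv_rev, mul_inv_rev, inv_inv, inv_inv, hti]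
      calc t * (t * g * t * g⁻¹) * t = (t * t) * g * t * g⁻¹ * t := by group
        _ = g * (t * (g⁻¹ * t)) := by rw [htt]; group
    have hlinv : t * l * t⁻¹ = l⁻¹ := by rw [hl, ← conj_pow, hkinv, inv_pow]
    have hlK : l ∈ K := pow_mem (hcomm g) _
    refine ⟨⟨l * g, mem_centralizer_singleton_iff.mpr ?_⟩, ?_⟩
    · have : t * (l * g) * t⁻¹ = l * g := by
        rw [show t * (l * g) * t⁻¹ = (t * l * t⁻¹) * (t * g * t⁻¹) by group, hlinv,
          show t * g * t⁻¹ = k * g by rw [hk]; group, ← hll]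
        group
      exact (mul_inv_eq_iff_eq_mul.mp this).symm
    · show (QuotientGroup.mk' K) (l * g) = _
      rw [map_mul, show (QuotientGroup.mk' K) l = 1 from (QuotientGroup.eq_one_iff _).mpr hlK,
        one_mul]
  haveI := hCN t (ne_one_of_orderOf_eq Nat.prime_two ht)
  haveI := Group.nilpotent_of_surjective _ hsurj
  exact hns (CITApp.isSolvable_of_normal K hsol inferInstance)

/-- A normal nilpotent subgroup of a non-solvable CN group is a 2-group. -/
theorem isPGroup_two {N : Subgroup G} [N.Normal] (hN : Group.IsNilpotent N) : IsPGroup 2 N := by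
  haveI : Fact (Nat.Prime 2) := ⟨Nat.prime_two⟩
  refine isPGroup_of_forall fun s hs y hy hys => ?_
  by_contra hs2
  haveI := Fact.mk hs
  obtain ⟨V, hVn, hVc, hVp, hV1, -, -⟩ :=
    exists_normal_elementary hN (p := s) (hys ▸ OddOrder.orderOf_dvd_card_of_mem hy)
  haveI := hVn
  haveI := hVc
  exact hV1 (eq_bot_of_abelian hns hCN hs2 V hVp)

end CfsgLib.CNStruct
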